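import Cfsg.Agent.H640.S8.Ext
import Cfsg.Agent.H417.DegMTwelve
import Cfsg.Agent.H497.S8.SolvEng
import Cfsg.Agent.S0421
import Cfsg.Agent.S2061
import Cfsg.Agent.CoThreeStd.M12.Model

/-!
# S4908, SOLV for the Mathieu group of degree 12 (helper640)

`adm`: a superset of the degrees of `M12` and `Aut M12`; `mem_D`: 45, 54, 120, 144 are degrees of both.
-/

set_option autoImplicit false

open scoped Pointwise
open Cfsg Cfsg.Agent.Characters.Core Cfsg.Agent.H424.DegTools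

namespace Cfsg.Agent.H640.S8.MTwelve

open Cfsg.Agent.MTwelve Cfsg.Agent.MTwelve.DegreeEleven

universe u v

variable {X : Type v} [Group X]

/-- The two descriptions of `M12`. -/
def stabEquiv : ↥(MulAction.stabilizer Cfsg.M24 Cfsg.Spor.squareDodecad) ≃* Cfsg.Spor.M12 where
  toFun g := ⟨((g : Cfsg.M24) : Equiv.Perm GolayPt), (g : Cfsg.M24).2, g.2⟩
  invFun g := ⟨⟨(g : Equiv.Perm GolayPt), g.2.1⟩, g.2.2⟩
  left_inv _ := rfl
  right_inv _ := rfl
  map_mul' _ _ := rfl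

theorem finite_m12 (hX : Cfsg.IsM12 X) : Finite X :=
  Nat.finite_of_card_ne_zero (by rw [hX.2]; norm_num)

theorem index_inn (hX : Cfsg.IsM12 X) : (MulAut.conj : X →* MulAut X).range.index = 2 := by
  have := finite_m12 hX
  obtain ⟨e⟩ := S0421.result hX _ Cfsg.Agent.CoThreeStd.M12.dodecad_mem
  rw [← H55.OutGen.card_out_eq_index, H55.OutGen.card_out_congr (e.trans stabEquiv)]
  exact S2061.result

theorem center_eq (hX : Cfsg.IsM12 X) : Subgroup.center X = ⊥ := by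
  have hs := hX.1
  have hn : (Subgroup.center X).Normal := inferInstance
  rcases hn.eq_bot_or_eq_top with h | h
  · exact h
  · exfalso
    have hcomm : ∀ a b : X, a * b = b * a := fun a b => by
      have : b ∈ Subgroup.center X := by rw [h]; trivial
      exact Subgroup.mem_center_iff.1 this a
    let _ : CommGroup X := { (inferInstance : Group X) with mul_comm := hcomm }
    have := finite_m12 hX
    have h1 : (Nat.card X).Prime := IsSimpleGroup.prime_card
    rw [hX.2] at h1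
    norm_num at h1

/-- The numerical data with `charDegree`. -/
theorem exists_data (hX : Cfsg.IsM12 X) [Fintype X] [Fintype (IrrCharacter X)] :
    ∃ C : Ctx (IrrCharacter X), ∀ ψ : IrrCharacter X, charDegree (ψ : X → ℂ) = C.deg ψ := by
  have hs : IsSimpleGroup X := hX.1
  have hc : Nat.card X = 95040 := hX.2
  obtain ⟨C, t, hdeg, ho, -⟩ := H417.DegMTwelve.exists_ctx hc
    (fun P => Cfsg.Agent.MTwelve.SylowEleven.centralizer_sylow11 hc P)
    (fun P => Cfsg.Agent.MTwelve.SylowEleven.card_normalizer_sylow11 hc P)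
  refine ⟨C, fun ψ => ?_⟩
  rw [hdeg]
  exact Cfsg.Agent.MTwelve.ElevenMain.charDegree_eq_deg ψ

/-- multiples of eleven among the possible degrees -/
def mel : List ℕ := [11, 22, 33, 44, 55, 66, 88, 99, 110, 132, 165, 176, 198, 220, 264, 297]

/-- a superset of the degrees of `M12` and of `Aut M12` -/
def adm : List ℕ :=
  [1, 11, 16, 22, 32, 33, 44, 45, 54, 55, 66, 88, 99, 110, 120, 132, 144, 165, 176, 198, 220, 264, 297, 330, 352, 396,
    440, 528, 594]

theorem mel_of_pool : ∀ n ∈ FiveBlock.pool, 11 ∣ n → n ∈ mel := by decide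

theorem adm_of_mel : ∀ n ∈ mel, n ∈ adm ∧ 2 * n ∈ adm := by decide

theorem not_dvd_of_mel : ∀ n ∈ mel, n ≠ 1 ∧ n ≠ 45 ∧ n ≠ 54 ∧ n ≠ 120 ∧ n ≠ 144 ∧ n ≠ 16 := by decide

/-- the degrees of the characters -/
theorem degrees (hX : Cfsg.IsM12 X) [Fintype X] [Fintype (IrrCharacter X)] :
    ∃ (o c45 c54 c120 c144 th th' : IrrCharacter X), charDegree (o : X → ℂ) = 1 ∧ charDegree (c45 : X → ℂ) = 45 ∧
      charDegree (c54 : X → ℂ) = 54 ∧ charDegree (c120 : X → ℂ) = 120 ∧ charDegree (c144 : X → ℂ) = 144 ∧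
      charDegree (th : X → ℂ) = 16 ∧ charDegree (th' : X → ℂ) = 16 ∧
      ∀ ψ : IrrCharacter X, ψ = o ∨ ψ = c45 ∨ ψ = c54 ∨ ψ = c120 ∨ ψ = c144 ∨ ψ = th ∨ ψ = th' ∨
        charDegree (ψ : X → ℂ) ∈ mel := by
  obtain ⟨C, hC⟩ := exists_data hX
  refine ⟨C.o, C.c45, C.c54, C.c120, C.c144, C.th, C.th', by rw [hC, C.deg_o], by rw [hC, C.d45], by rw [hC, C.d54],
    by rw [hC, C.d120], by rw [hC, C.d144], by rw [hC, C.dth], by rw [hC, C.dth'], fun ψ => ?_⟩
  rcases C.rest ψ with h | h | h | h | h | h | h | h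
  · exact Or.inl h
  · exact Or.inr (Or.inl h)
  · exact Or.inr (Or.inr (Or.inl h))
  · exact Or.inr (Or.inr (Or.inr (Or.inl h)))
  · exact Or.inr (Or.inr (Or.inr (Or.inr (Or.inl h))))
  · exact Or.inr (Or.inr (Or.inr (Or.inr (Or.inr (Or.inl h)))))
  · exact Or.inr (Or.inr (Or.inr (Or.inr (Or.inr (Or.inr (Or.inl h))))))
  · by_cases ho : ψ = C.o
    · exact Or.inl ho
    · refine Or.inr (Or.inr (Or.inr (Or.inr (Or.inr (Or.inr (Or.inr ?_))))))
      rw [hC]
      exact mel_of_pool _ (C.hpool ψ ho) h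

/-- a character is determined by its degree if this is 45, 54, 120 or 144 -/
theorem unique (hX : Cfsg.IsM12 X) [Fintype X] [Fintype (IrrCharacter X)] {d : ℕ}
    (hd : d = 45 ∨ d = 54 ∨ d = 120 ∨ d = 144) :
    ∃ χ : X → ℂ, IsIrrCharacter X χ ∧ χ 1 = d ∧ ∀ η : X → ℂ, IsIrrCharacter X η → η 1 = d → η = χ := by
  obtain ⟨o, c45, c54, c120, c144, th, th', ho, h45, h54, h120, h144, h16, h16', hrest⟩ := degrees hX
  have key : ∀ ψ : IrrCharacter X, charDegree (ψ : X → ℂ) = d →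
      (d = 45 ∧ ψ = c45) ∨ (d = 54 ∧ ψ = c54) ∨ (d = 120 ∧ ψ = c120) ∨ (d = 144 ∧ ψ = c144) := by
    intro ψ hψ
    rcases hrest ψ with rfl | rfl | rfl | rfl | rfl | rfl | rfl | h
    · omega
    · exact Or.inl ⟨by omega, rfl⟩
    · exact Or.inr (Or.inl ⟨by omega, rfl⟩)
    · exact Or.inr (Or.inr (Or.inl ⟨by omega, rfl⟩))
    · exact Or.inr (Or.inr (Or.inr ⟨by omega, rfl⟩))
    · omega
    · omega
    · have := not_dvd_of_mel _ h
      omega
  have hdeg : ∀ (ψ : IrrCharacter X), (ψ : X → ℂ) 1 = (charDegree (ψ : X → ℂ) : ℂ) := fun ψ =>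
    Blocks.Basic.irr_one_eq_charDegree ψ.2
  have hdeg' : ∀ (ψ : IrrCharacter X) (e : ℕ), (ψ : X → ℂ) 1 = e → charDegree (ψ : X → ℂ) = e := fun ψ e h =>
    Blocks.Basic.charDegree_of_eq h
  rcases hd with rfl | rfl | rfl | rfl
  · refine ⟨c45, c45.2, by rw [hdeg, h45], fun η hη h1 => ?_⟩
    rcases key ⟨η, hη⟩ (hdeg' ⟨η, hη⟩ _ h1) with ⟨h, h'⟩ | ⟨h, h'⟩ | ⟨h, h'⟩ | ⟨h, h'⟩ <;>
      first | omega | exact congrArg Subtype.val h'
  · refine ⟨c54, c54.2, by rw [hdeg, h54], fun η hη h1 => ?_⟩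
    rcases key ⟨η, hη⟩ (hdeg' ⟨η, hη⟩ _ h1) with ⟨h, h'⟩ | ⟨h, h'⟩ | ⟨h, h'⟩ | ⟨h, h'⟩ <;>
      first | omega | exact congrArg Subtype.val h'
  · refine ⟨c120, c120.2, by rw [hdeg, h120], fun η hη h1 => ?_⟩
    rcases key ⟨η, hη⟩ (hdeg' ⟨η, hη⟩ _ h1) with ⟨h, h'⟩ | ⟨h, h'⟩ | ⟨h, h'⟩ | ⟨h, h'⟩ <;>
      first | omega | exact congrArg Subtype.val h'
  · refine ⟨c144, c144.2, by rw [hdeg, h144], fun η hη h1 => ?_⟩
    rcases key ⟨η, hη⟩ (hdeg' ⟨η, hη⟩ _ h1) with ⟨h, h'⟩ | ⟨h, h'⟩ | ⟨h, h'⟩ | ⟨h, h'⟩ <;>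
      first | omega | exact congrArg Subtype.val h'

/-- 45, 54, 120, 144 are degrees -/
theorem mem_D (hX : Cfsg.IsM12 X) {D : Set ℕ} (hD : H704.S8.Deg 2 X D) :
    ∀ d ∈ ([45, 54, 120, 144] : List ℕ), d ∈ D := by
  intro d hd
  have := finite_m12 hX
  have := Fintype.ofFinite X
  have := finite_irr (G := X)
  have := Fintype.ofFinite (IrrCharacter X)
  have hd' : d = 45 ∨ d = 54 ∨ d = 120 ∨ d = 144 := by simpa using hd
  obtain ⟨χ, hχ, h1, huni⟩ := unique hX hd'
  rcases hD with rfl | ⟨-, rfl⟩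
  · exact mem_charDegrees.2 ⟨χ, hχ, h1⟩
  · exact mem_aut_of_unique (center_eq hX) (index_inn hX) hχ h1 huni

/-- the degrees of `M12` are in the list; so are twice the degrees of two different characters -/
theorem deg_sub (hX : Cfsg.IsM12 X) {D : Set ℕ} (hD : H704.S8.Deg 2 X D) : ∀ d ∈ D, d ∈ adm := by
  have := finite_m12 hX
  have := Fintype.ofFinite X
  have := finite_irr (G := X)
  have := Fintype.ofFinite (IrrCharacter X)
  obtain ⟨o, c45, c54, c120, c144, th, th', ho, h45, h54, h120, h144, h16, h16', hrest⟩ := degrees hX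
  have hdX : ∀ d ∈ charDegrees X, d ∈ adm := by
    rintro d ⟨ψ, rfl⟩
    rcases hrest ψ with rfl | rfl | rfl | rfl | rfl | rfl | rfl | h
    · rw [ho]; decide
    · rw [h45]; decide
    · rw [h54]; decide
    · rw [h120]; decide
    · rw [h144]; decide
    · rw [h16]; decide
    · rw [h16']; decide
    · exact (adm_of_mel _ h).1
  rcases hD with rfl | ⟨-, rfl⟩
  · exact hdX
  · intro d hd
    rcases H109.S8.deg_aut (center_eq hX) (index_inn hX) hd with h | ⟨χ, χ', f, hne, h1, h2, rfl⟩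
    · exact hdX d h
    · have e1 : charDegree (χ : X → ℂ) = f := Blocks.Basic.charDegree_of_eq h1
      have e2 : charDegree (χ' : X → ℂ) = f := Blocks.Basic.charDegree_of_eq h2
      rcases hrest χ with rfl | rfl | rfl | rfl | rfl | rfl | rfl | h
      all_goals try (rw [e1] at h; exact (adm_of_mel _ h).2)
      all_goals
        rcases hrest χ' with rfl | rfl | rfl | rfl | rfl | rfl | rfl | h
      all_goals try (rw [e2] at h; exact (adm_of_mel _ h).2)
      all_goals first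
        | exact absurd rfl hne
        | (exfalso; omega)
        | (have : f = 16 := by omega
           subst this; decide)

/-- **SOLV for `M12`.** -/
theorem solv (hX : Cfsg.IsM12 X) {D : Set ℕ} (hD : H704.S8.Deg 2 X D) : H704.S8.Solv.{u} D := by
  refine H497.S8.solv_of_chk 594 [2, 3, 5, 11] adm [45, 54, 120, 144] ?_ (deg_sub hX hD) (mem_D hX hD)
    (by decide +kernel)
  intro p hp
  simp only [List.mem_cons, List.not_mem_nil, or_false] at hp
  rcases hp with rfl | rfl | rfl | rfl <;> norm_num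

end Cfsg.Agent.H640.S8.MTwelve
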