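import Cfsg.Agent.H109.S8.AutDeg
import Cfsg.Agent.S0886

/-!
# A degree of exactly one irreducible character of `X` is a degree of `Aut X` (helper640)
-/

set_option autoImplicit false

open Cfsg Cfsg.Agent.Characters.Core Cfsg.Agent.H424.DegTools

namespace Cfsg.Agent.H640.S8

universe u v

theorem mem_aut_of_unique {X : Type v} [Group X] [Finite X] (hc : Subgroup.center X = ⊥)
    (h2 : (MulAut.conj : X →* MulAut X).range.index = 2) {χ : X → ℂ} (hχ : IsIrrCharacter X χ) {d : ℕ}
    (hd : χ 1 = d) (huni : ∀ η : X → ℂ, IsIrrCharacter X η → η 1 = d → η = χ) : d ∈ charDegrees (MulAut X) := by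
  have : Finite (MulAut X) := inferInstance
  have hn : (MulAut.conj : X →* MulAut X).range.Normal := by
    constructor
    rintro _ ⟨x, rfl⟩ g
    exact ⟨g x, by ext y; simp [MulAut.conj_apply]⟩
  have hinj : Function.Injective (MulAut.conj : X →* MulAut X) := by
    rw [injective_iff_map_eq_one]
    intro a ha
    rw [← Subgroup.mem_bot, ← hc, Subgroup.mem_center_iff]
    intro y
    have h1 : MulAut.conj a y = y := by rw [ha]; rfl
    rw [MulAut.conj_apply, mul_inv_eq_iff_eq_mul] at h1
    exact h1.symm
  let E : X ≃* (MulAut.conj : X →* MulAut X).range := MonoidHom.ofInjective hinj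
  have hcyc : IsCyclic (MulAut X ⧸ (MulAut.conj : X →* MulAut X).range) := by
    have : Fact (Nat.Prime 2) := ⟨Nat.prime_two⟩
    exact isCyclic_of_prime_card (p := 2) h2
  have hirr : IsIrrCharacter (MulAut.conj : X →* MulAut X).range (χ ∘ E.symm) :=
    isIrr_comp E.symm.toMonoidHom E.symm.surjective hχ
  obtain ⟨ψ, hψ, hr⟩ := S0886.result _ hcyc (χ ∘ E.symm) hirr (by
    intro g n
    -- the twist of `χ` by `g` has the same degree
    have h3 : IsIrrCharacter X (χ ∘ g) := isIrr_comp g.toMonoidHom g.surjective hχ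
    have h4 : χ ∘ g = χ := huni _ h3 (by rw [Function.comp_apply, map_one, hd])
    obtain ⟨x, rfl⟩ := E.surjective n
    have h5 : E.symm ⟨g * (E x : MulAut X) * g⁻¹, hn.conj_mem _ (E x).2 g⟩ = g x := by
      apply E.injective
      rw [E.apply_symm_apply]
      apply Subtype.ext
      show g * MulAut.conj x * g⁻¹ = MulAut.conj (g x)
      ext y
      simp [MulAut.conj_apply]
    rw [Function.comp_apply, h5, Function.comp_apply, E.symm_apply_apply]
    exact congrFun h4 x)
  refine mem_charDegrees.2 ⟨ψ, hψ, ?_⟩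
  have h6 := hr 1
  rw [show (((1 : (MulAut.conj : X →* MulAut X).range)) : MulAut X) = 1 from rfl] at h6
  rw [h6, Function.comp_apply, map_one, hd]

end Cfsg.Agent.H640.S8
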