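import Cfsg.Agent.H640.S8.MTwelve
import Cfsg.Agent.H882.S8.Out
import Cfsg.Agent.OddHalf.D9.TwoM12.Aut
import Cfsg.Agent.CoThreeStd.M12.Out
import Cfsg.Agent.H217.Odm.Real
import Cfsg.Agent.H704.S8.Defs3

/-!
# S4908, OUT for the Mathieu group of degree 12 (helper640)

The outer involution `alpha` inverts an element of order 11, the normalizer of a Sylow 11-subgroup of `M12` has odd order
55, so no outer involution centralizes an element of order 11 (`no_fix`); then `H882.S8.Out.ne`. The computation of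
`X0`, `alpha_X0`, `card_c11` follows helper858's file `H858/SidM12.lean`.
-/

set_option autoImplicit false

open scoped Pointwise

namespace Cfsg.Agent.H640.S8.MTwOut

open Cfsg Subgroup
open Cfsg.Agent.CoThreeStd.MTwelve Cfsg.Agent.CoThreeStd.InvTwo Cfsg.Agent.CoThreeStd.OutAut
open Cfsg.Agent.OddHalf.D9.TwoM12 (conj_al center_H)

universe u v

local notation "αα" => Cfsg.Agent.CoThreeStd.OutAut.alpha

/-- an element of order 11 inverted by `alpha` -/
def wX : List ℕ := [5, 4, 5, 0, 5, 3, 1]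

def X0 : H := wd wX

theorem X0_ne : X0 ≠ 1 := wd_ne (l' := []) 0 (by norm_num) (by decide +kernel)

theorem wd_rep (l : List ℕ) (n : ℕ) : wd (List.replicate n l).flatten = wd l ^ n := by
  induction n with
  | zero => rw [pow_zero]; rfl
  | succ n ih => rw [List.replicate_succ, List.flatten_cons, wd_append, ih, pow_succ']

theorem X0_pow : X0 ^ 11 = 1 := by
  rw [X0, ← wd_rep]
  exact wd_eq (l' := []) (by decide +kernel)

theorem X0_ord : orderOf X0 = 11 :=
  have : Fact (Nat.Prime 11) := ⟨by norm_num⟩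
  orderOf_eq_prime (p := 11) X0_pow X0_ne

theorem alpha_X0 : αα X0 = X0⁻¹ := by
  rw [X0, alpha_wd, wd_reverse]
  exact wd_eq (by decide +kernel)

theorem finite_H : Finite H := Nat.finite_of_card_ne_zero (by rw [card_H]; norm_num)

/-- two subgroups of order 11 are conjugate -/
theorem conj_zp {x y : H} (hx : orderOf x = 11) (hy : orderOf y = 11) : ∃ g : H, ∃ i : ℤ, y = g * x ^ i * g⁻¹ := by
  have := finite_H
  have hp' : Fact (Nat.Prime 11) := ⟨by norm_num⟩
  have hfac : (Nat.card H).factorization 11 = 1 := by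
    rw [card_H, show 95040 = 11 * 8640 by norm_num, Nat.factorization_mul (by norm_num) (by norm_num), Finsupp.add_apply,
      Nat.Prime.factorization_self (by norm_num), Nat.factorization_eq_zero_of_not_dvd (by norm_num)]
  let P : Sylow 11 H := Sylow.ofCard (zpowers x) (by rw [Nat.card_zpowers, hx, hfac, pow_one])
  let Q : Sylow 11 H := Sylow.ofCard (zpowers y) (by rw [Nat.card_zpowers, hy, hfac, pow_one])
  obtain ⟨g, hg⟩ := MulAction.exists_smul_eq H P Q
  have h1 : (Q : Subgroup H) = (P : Subgroup H).map (MulAut.conj g).toMonoidHom := by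
    rw [← hg]; rfl
  have h1' : zpowers y = (zpowers x).map (MulAut.conj g).toMonoidHom := h1
  have h2 : y ∈ (zpowers x).map (MulAut.conj g).toMonoidHom := by rw [← h1']; exact mem_zpowers y
  obtain ⟨_, ⟨i, rfl⟩, hv⟩ := h2
  exact ⟨g, i, hv.symm⟩

theorem card_c11 (x : H) (hx : orderOf x = 11) : Nat.card (centralizer ({x} : Set H)) = 11 := by
  have := finite_H
  set x₀ : H := Cfsg.Agent.CoThreeStd.M12.equiv.symm Cfsg.Agent.CoThreeStd.M12.Out.g with hx₀
  have h0 : orderOf x₀ = 11 := by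
    rw [hx₀, MulEquiv.orderOf_eq, Cfsg.Agent.CoThreeStd.M12.Out.orderOf_g]
  have hle : ∀ c : H, c * x₀ = x₀ * c → c ∈ zpowers x₀ := by
    intro c h2
    obtain ⟨k, hk⟩ := Cfsg.Agent.CoThreeStd.M12.Out.cent_g (x := Cfsg.Agent.CoThreeStd.M12.equiv c) (by
      have h3 := congrArg Cfsg.Agent.CoThreeStd.M12.equiv h2
      rwa [map_mul, map_mul, hx₀, MulEquiv.apply_symm_apply] at h3)
    refine ⟨(k : ℕ), ?_⟩
    show x₀ ^ ((k : ℕ) : ℤ) = c
    apply Cfsg.Agent.CoThreeStd.M12.equiv.injective
    rw [zpow_natCast, map_pow, hx₀, MulEquiv.apply_symm_apply, hk]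
  obtain ⟨g, i, hg⟩ := conj_zp hx h0
  -- `x₀ = g x^i g⁻¹`
  have h1 : centralizer ({x} : Set H) = zpowers x := by
    apply le_antisymm
    · intro c hc
      have h2 : c * x = x * c := mem_centralizer_singleton_iff.1 hc
      have h3 : Commute c (x ^ i) := (show Commute c x from h2).zpow_right i
      have h4 : (g * c * g⁻¹) * x₀ = x₀ * (g * c * g⁻¹) := by
        rw [hg]
        calc g * c * g⁻¹ * (g * x ^ i * g⁻¹) = g * (c * x ^ i) * g⁻¹ := by group
          _ = g * (x ^ i * c) * g⁻¹ := by rw [h3.eq]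
          _ = _ := by group
      obtain ⟨k, hk⟩ := hle _ h4
      have hk' : x₀ ^ k = g * c * g⁻¹ := hk
      rw [hg, conj_zpow, ← zpow_mul] at hk'
      have h5 : x ^ (i * k) = c := by
        have h6 := congrArg (fun z => g⁻¹ * z * g) hk'
        simpa [mul_assoc] using h6
      exact ⟨i * k, h5⟩
    · exact zpowers_le.2 (mem_centralizer_singleton_iff.2 rfl)
  rw [h1, Nat.card_zpowers, hx]

theorem card_n11 (x : H) (hx : orderOf x = 11) :
    Nat.card (normalizer ((zpowers x : Subgroup H) : Set H)) = 11 * 5 := by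
  have := finite_H
  exact Cfsg.Agent.H217.Odm.norm_of_self_cent (n := 8640) (by norm_num) card_H (by norm_num) hx (card_c11 x hx)

/-- no element of `M12` inverts an element of order 11 -/
theorem no_inv {x m : H} (hx : orderOf x = 11) (h : m * x * m⁻¹ = x⁻¹) : False := by
  have := finite_H
  have hz : ∀ k : ℤ, m * x ^ k * m⁻¹ = x ^ (-k) := fun k => by
    rw [← conj_zpow, h, inv_zpow']
  have hmn : m ∈ normalizer ((zpowers x : Subgroup H) : Set H) := by
    rw [mem_normalizer_iff]
    intro w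
    constructor
    · rintro ⟨k, rfl⟩
      exact ⟨-k, (hz k).symm⟩
    · rintro ⟨k, hk⟩
      have hk' : x ^ k = m * w * m⁻¹ := hk
      refine ⟨-k, ?_⟩
      have h1 := hz (-k)
      rw [neg_neg, hk'] at h1
      show x ^ (-k) = w
      exact mul_left_cancel (mul_right_cancel h1)
  have hd := Subgroup.orderOf_dvd_natCard _ hmn
  rw [card_n11 x hx] at hd
  have h55 : m ^ 55 = 1 := orderOf_dvd_iff_pow_eq_one.1 hd
  have hc : Commute (m ^ 2) x := by
    have h1 : m * (m * x * m⁻¹) * m⁻¹ = x := by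
      rw [h]
      have h2 := hz (-1)
      rw [neg_neg, zpow_one, zpow_neg_one] at h2
      exact h2
    show m ^ 2 * x = x * m ^ 2
    calc m ^ 2 * x = m * (m * x * m⁻¹) * m⁻¹ * m ^ 2 := by rw [pow_two]; simp only [mul_assoc, inv_mul_cancel_left, inv_mul_cancel, mul_one]
      _ = x * m ^ 2 := by rw [h1]
  have hm : m = (m ^ 2) ^ 28 := by
    rw [← pow_mul, show 2 * 28 = 55 + 1 by norm_num, pow_add, h55, pow_one, one_mul]
  have hmx : Commute m x := by
    rw [hm]
    exact hc.pow_left 28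
  have h3 : x = x⁻¹ := by
    rw [← h, hmx.eq, mul_inv_cancel_right]
  have h4 : x ^ 2 = 1 := by
    rw [pow_two]
    nth_rewrite 2 [h3]
    exact mul_inv_cancel x
  have h5 := orderOf_dvd_of_pow_eq_one h4
  rw [hx] at h5
  norm_num at h5

/-- an outer involution of `M12` centralizes no element of order 11 -/
theorem no_fix (al : MulAut H) (h2 : al * al = 1) (ho : al ∉ (MulAut.conj : H →* MulAut H).range) (y : H)
    (hy : orderOf y = 11) : al y ≠ y := by
  intro hf
  obtain ⟨k, hk⟩ := conj_al al ho h2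
  have h1 : αα (k * y * k⁻¹) = k * y * k⁻¹ := by
    rw [← hk]
    rw [show k⁻¹ * (k * y * k⁻¹) * k = y by group, hf]
  have hy' : orderOf (k * y * k⁻¹) = 11 := by
    rw [← hy]
    exact MulEquiv.orderOf_eq (MulAut.conj k) y
  obtain ⟨g, i, hg⟩ := conj_zp X0_ord hy'
  rw [hg] at h1 hy'
  have hx : orderOf (X0 ^ i) = 11 := by
    rw [← hy']
    exact (MulEquiv.orderOf_eq (MulAut.conj g) (X0 ^ i)).symm
  rw [map_mul, map_mul, map_inv, map_zpow, alpha_X0, inv_zpow'] at h1
  -- `alpha g * X0 ^ (-i) * (alpha g)⁻¹ = g * X0 ^ i * g⁻¹`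
  apply no_inv (m := (αα g)⁻¹ * g) hx
  have h3 : (αα g)⁻¹ * (g * X0 ^ i * g⁻¹) * αα g = (X0 ^ i)⁻¹ := by
    rw [← h1, zpow_neg]
    group
  rw [← h3]
  group

theorem index_two : (MulAut.conj : H →* MulAut H).range.index = 2 := by
  rw [← H55.OutGen.card_out_eq_index]
  exact S2061.result

theorem ne_model : charDegrees H ≠ charDegrees (MulAut H) := by
  have := finite_H
  refine H882.S8.Out.ne (p := 11) (by norm_num) (by norm_num) ?_ (by rw [card_H]; norm_num) (by rw [card_H]; norm_num)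
    (fun y hy => card_c11 y hy) (by rw [card_H]) index_two (fun al h2 ho y hy => no_fix al h2 ho y hy)
  rw [eq_bot_iff]
  intro z hz
  rw [mem_bot]
  exact center_H z fun y => ((mem_center_iff.1 hz) y).symm

theorem ne {X : Type v} [Group X] (hX : Cfsg.IsM12 X) : charDegrees X ≠ charDegrees (MulAut X) := by
  have := H640.S8.MTwelve.finite_m12 hX
  obtain ⟨e⟩ := S0421.result hX _ Cfsg.Agent.CoThreeStd.M12.dodecad_mem
  have e' : X ≃* H := e.trans H640.S8.MTwelve.stabEquiv
  rw [Cfsg.Agent.H424.DegTools.charDegrees_congr e', Cfsg.Agent.H424.DegTools.charDegrees_congr (MulAut.congr e')]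
  exact ne_model

/-- **OUT for `M12`** -/
theorem out {X : Type v} [Group X] (hX : Cfsg.IsM12 X) : H704.S8.OutRow3 2 X :=
  ⟨(H640.S8.MTwelve.index_inn hX).le, fun _ => ne hX⟩

end Cfsg.Agent.H640.S8.MTwOut
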